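import Cfsg.Agent.Helper43.Cov2.Defs
import Cfsg.Agent.Helper13.Symp
import Cfsg.Prelude.Def_GeometricClasses

/-!
# S2500 part 7: `Sp₆(q)`, `q = 3^a`, is covered by the conjugates of the stabiliser of a
non-degenerate plane and of the normaliser of a self-adjoint cubic field `F_{q³}`.

`FixesPlane g` : `g` stabilises a non-degenerate 2-plane.
`IsCubic K` : `K` is a subfield of degree 3 of the matrix algebra, all of whose elements are
self-adjoint for the symplectic form.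
`NormCubic g` : `g` normalises some such `K`.
`stabPlane`, `normK K` : the two subgroups of `Sp₆(F)`.
-/

set_option autoImplicit false

namespace Cfsg.Agent.Helper43.Cov2.P7

open Matrix

variable {F : Type*} [Field F]

/-- `F⁶` -/
abbrev V6 (F : Type*) := Fin 3 ⊕ Fin 3 → F

/-- `M₆(F)` -/
abbrev M6 (F : Type*) := Matrix (Fin 3 ⊕ Fin 3) (Fin 3 ⊕ Fin 3) F

/-- `Sp₆(F)` -/
abbrev Sp6 (F : Type*) [Field F] := Matrix.symplecticGroup (Fin 3) F

/-- `g` stabilises a non-degenerate plane `⟨x, y⟩`. -/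
def FixesPlane (g : M6 F) : Prop :=
  ∃ x y : V6 F, Cfsg.sympForm 3 F x y ≠ 0 ∧ (∃ a b : F, g *ᵥ x = a • x + b • y) ∧
    (∃ c d : F, g *ᵥ y = c • x + d • y)

/-- a self-adjoint cubic field of matrices -/
def IsCubic (K : Subalgebra F (M6 F)) : Prop :=
  Cfsg.Geo.IsFieldSubalgebra 3 K ∧ Cfsg.Geo.IsSelfAdjointFor (Cfsg.sympForm 3 F) K

/-- `g` normalises some self-adjoint cubic field. -/
def NormCubic (g : M6 F) : Prop :=
  ∃ K : Subalgebra F (M6 F), IsCubic K ∧ ∀ k ∈ K, ∃ k' ∈ K, g * k = k' * g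

theorem coe_mul_Sp6 (g h : Sp6 F) : ((g * h : Sp6 F) : M6 F) = (g : M6 F) * (h : M6 F) := rfl

theorem coe_one_Sp6 : ((1 : Sp6 F) : M6 F) = 1 := rfl

theorem coe_mul_inv_Sp6 (g : Sp6 F) : (g : M6 F) * ((g⁻¹ : Sp6 F) : M6 F) = 1 := by
  rw [← coe_mul_Sp6, mul_inv_cancel, coe_one_Sp6]

theorem coe_inv_mul_Sp6 (g : Sp6 F) : ((g⁻¹ : Sp6 F) : M6 F) * (g : M6 F) = 1 := by
  rw [← coe_mul_Sp6, inv_mul_cancel, coe_one_Sp6]

/-- the standard hyperbolic plane -/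
def P0 (F : Type*) [Field F] : Submodule F (V6 F) :=
  Submodule.span F {Pi.single (Sum.inl 0) 1, Pi.single (Sum.inr 0) 1}

/-- the stabiliser of a subspace in `Sp₆(F)` -/
def stabSub (W : Submodule F (V6 F)) : Subgroup (Sp6 F) where
  carrier := {g | ∀ v : V6 F, v ∈ W ↔ (g : M6 F) *ᵥ v ∈ W}
  mul_mem' {g h} hg hh := by
    intro v
    rw [coe_mul_Sp6, ← Matrix.mulVec_mulVec, ← hg, ← hh]
  one_mem' := by
    intro v
    rw [coe_one_Sp6, Matrix.one_mulVec]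
  inv_mem' {g} hg := by
    intro v
    rw [hg (((g⁻¹ : Sp6 F) : M6 F) *ᵥ v), Matrix.mulVec_mulVec, coe_mul_inv_Sp6, Matrix.one_mulVec]

theorem mem_stabSub {W : Submodule F (V6 F)} {g : Sp6 F} :
    g ∈ stabSub W ↔ ∀ v : V6 F, v ∈ W ↔ (g : M6 F) *ᵥ v ∈ W := Iff.rfl

/-- the stabiliser of the standard plane -/
def stabPlane (F : Type*) [Field F] : Subgroup (Sp6 F) := stabSub (P0 F)

/-- the normaliser in `Sp₆(F)` of a subalgebra -/
def normK (K : Subalgebra F (M6 F)) : Subgroup (Sp6 F) where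
  carrier := {g | ∀ k : M6 F, k ∈ K ↔ (g : M6 F) * k * ((g⁻¹ : Sp6 F) : M6 F) ∈ K}
  mul_mem' {g h} hg hh := by
    intro k
    rw [hh k, hg, _root_.mul_inv_rev, coe_mul_Sp6, coe_mul_Sp6]
    simp only [mul_assoc]
  one_mem' := by
    intro k
    rw [inv_one, coe_one_Sp6, one_mul, mul_one]
  inv_mem' {g} hg := by
    intro k
    rw [hg (((g⁻¹ : Sp6 F) : M6 F) * k * (((g⁻¹)⁻¹ : Sp6 F) : M6 F)), inv_inv]
    have : (g : M6 F) * (((g⁻¹ : Sp6 F) : M6 F) * k * (g : M6 F)) * ((g⁻¹ : Sp6 F) : M6 F) = k := by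
      calc (g : M6 F) * (((g⁻¹ : Sp6 F) : M6 F) * k * (g : M6 F)) * ((g⁻¹ : Sp6 F) : M6 F)
          = ((g : M6 F) * ((g⁻¹ : Sp6 F) : M6 F)) * k * ((g : M6 F) * ((g⁻¹ : Sp6 F) : M6 F)) := by
            simp only [mul_assoc]
        _ = k := by rw [coe_mul_inv_Sp6, one_mul, mul_one]
    rw [this]

theorem mem_normK {K : Subalgebra F (M6 F)} {g : Sp6 F} :
    g ∈ normK K ↔ ∀ k : M6 F, k ∈ K ↔ (g : M6 F) * k * ((g⁻¹ : Sp6 F) : M6 F) ∈ K := Iff.rfl

end Cfsg.Agent.Helper43.Cov2.P7
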