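import Cfsg.Agent.Helper43.Cov2.Defs
import Cfsg.Agent.Helper13.Symp
import Cfsg.Prelude.Def_ClassicalGeometry

/-!
# S2500 part 6 (Dye): `Sp_{2m}(q)`, `q` even, is covered by the conjugates of `O^+` and `O^-`.

`Qa a v = Σ v_i v_i' + f(a, v)^2` : the quadratic forms polarising to the standard alternating form.
`stab Q` : the subgroup of `Sp_{2m}(F)` (Mathlib's `Matrix.symplecticGroup`) preserving `Q`.
-/

set_option autoImplicit false

namespace Cfsg.Agent.Helper43.Cov2.P6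

open Matrix

variable {F : Type*} [Field F] {m : ℕ}

/-- `Q_a = Q_+ + f(a, ·)^2`. -/
def Qa (a v : Fin m ⊕ Fin m → F) : F :=
  Cfsg.quadFormPlus m F v + (Cfsg.sympForm m F a v) ^ 2

/-- the subgroup of the symplectic group preserving the function `Q`. -/
def stab (Q : (Fin m ⊕ Fin m → F) → F) : Subgroup (Matrix.symplecticGroup (Fin m) F) where
  carrier := {A | ∀ v, Q ((A : Matrix (Fin m ⊕ Fin m) (Fin m ⊕ Fin m) F) *ᵥ v) = Q v}
  mul_mem' {A B} hA hB := by
    intro v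
    have : ((A * B : Matrix.symplecticGroup (Fin m) F) :
        Matrix (Fin m ⊕ Fin m) (Fin m ⊕ Fin m) F) = (A : Matrix _ _ F) * (B : Matrix _ _ F) := rfl
    rw [this, ← Matrix.mulVec_mulVec, hA, hB]
  one_mem' := by
    intro v
    have : ((1 : Matrix.symplecticGroup (Fin m) F) :
        Matrix (Fin m ⊕ Fin m) (Fin m ⊕ Fin m) F) = 1 := rfl
    rw [this, Matrix.one_mulVec]
  inv_mem' {A} hA := by
    intro v
    have h1 : (A : Matrix (Fin m ⊕ Fin m) (Fin m ⊕ Fin m) F) *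
        ((A⁻¹ : Matrix.symplecticGroup (Fin m) F) : Matrix (Fin m ⊕ Fin m) (Fin m ⊕ Fin m) F) = 1 := by
      have : ((A * A⁻¹ : Matrix.symplecticGroup (Fin m) F) :
        Matrix (Fin m ⊕ Fin m) (Fin m ⊕ Fin m) F) = 1 := by rw [mul_inv_cancel]; rfl
      exact this
    have h2 := hA (((A⁻¹ : Matrix.symplecticGroup (Fin m) F) :
      Matrix (Fin m ⊕ Fin m) (Fin m ⊕ Fin m) F) *ᵥ v)
    rw [Matrix.mulVec_mulVec, h1, Matrix.one_mulVec] at h2
    exact h2.symm

theorem mem_stab {Q : (Fin m ⊕ Fin m → F) → F} {A : Matrix.symplecticGroup (Fin m) F} :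
    A ∈ stab Q ↔ ∀ v, Q ((A : Matrix (Fin m ⊕ Fin m) (Fin m ⊕ Fin m) F) *ᵥ v) = Q v := Iff.rfl

end Cfsg.Agent.Helper43.Cov2.P6
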