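import Cfsg.Agent.Helper43.Cov2.P6Defs
import Cfsg.Agent.Helper29.Cov2P66A
import Cfsg.Agent.Helper29.Cov2P66B
import Cfsg.Agent.Helper30.Cov2P66C
import Cfsg.Agent.Helper30.Cov2P66D
import Cfsg.Agent.Helper30.Cov2P66E

/-!
# S2500 part 6: assembly (Dye's theorem)
-/

set_option autoImplicit false

namespace Cfsg.Agent.Helper43.Cov2

variable {F : Type*} [Field F] [Fintype F]

theorem part6 (m : ℕ) (hm : 2 ≤ m) (heven : ¬ Odd (Fintype.card F)) :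
    Cover2Z (Matrix.symplecticGroup (Fin m) F) := by
  obtain ⟨a₀, ha₀⟩ := Cfsg.Agent.Helper29.Cov2.P6.two_classes (F := F) (m := m) (by omega) heven
  refine ⟨P6.stab (P6.Qa 0), P6.stab (P6.Qa a₀), Cfsg.Agent.Helper30.Cov2.P6.center_le_stab _,
    Cfsg.Agent.Helper30.Cov2.P6.center_le_stab _,
    Cfsg.Agent.Helper30.Cov2.P6.stab_ne_top hm heven _,
    Cfsg.Agent.Helper30.Cov2.P6.stab_ne_top hm heven _, ?_⟩
  intro g
  obtain ⟨a, ha⟩ := Cfsg.Agent.Helper29.Cov2.P6.dye heven g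
  obtain ⟨C, hC | hC⟩ := ha₀ a
  · obtain ⟨x, hx⟩ := Cfsg.Agent.Helper30.Cov2.P6.conj_of_isometry heven a 0 C hC g ha
    exact ⟨x, Or.inl hx⟩
  · obtain ⟨x, hx⟩ := Cfsg.Agent.Helper30.Cov2.P6.conj_of_isometry heven a a₀ C hC g ha
    exact ⟨x, Or.inr hx⟩

end Cfsg.Agent.Helper43.Cov2
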