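import Cfsg.Agent.Helper43.Cov2.P7Defs
import Cfsg.Agent.Helper47.Cov2P7B
import Cfsg.Agent.Helper47.Cov2P7D3
import Cfsg.Agent.Helper30.Cov2P77D1
import Cfsg.Agent.Helper30.Cov2P77D2
import Cfsg.Agent.Helper30.Cov2P77D4
import Cfsg.Agent.Helper30.Cov2P7A2
import Cfsg.Agent.Helper30.Cov2P7U1
import Cfsg.Agent.Helper24.Cov2P7A0
import Cfsg.Agent.Helper87.Cov2P7U5
import Cfsg.Agent.Helper87.Cov2P7UN
import Cfsg.Agent.Helper97.Cov2P7U2
import Cfsg.Agent.Helper97.Cov2P7U4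
import Cfsg.Agent.Helper80.Cov2P7TM
import Cfsg.Agent.Helper69.Cov2P7Q2
import Cfsg.Agent.Helper52.Cov2P7C
import Cfsg.Agent.Helper24.Cov2P7A1
import Cfsg.Agent.Helper90.Cov2P7U3
import Cfsg.Agent.Helper20.Cov2P7Q1a
import Cfsg.Agent.Helper20.Cov2P7Q1b
import Cfsg.Agent.Helper73.Cov2P7Q1c
import Cfsg.Agent.Helper76.Cov2P7Q1d
import Cfsg.Agent.Helper41.Cov2P7U6

/-!
# S2500 part 7: assembly
-/

set_option autoImplicit false

namespace Cfsg.Agent.Helper43.Cov2.P7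

open Matrix
open Cfsg.Agent.Helper69.Cov2.P7 (uFam)

variable {F : Type*} [Field F]

theorem conj_into_stabPlane [Fintype F] (g : Sp6 F) (h : FixesPlane (g : M6 F)) :
    ∃ x : Sp6 F, x * g * x⁻¹ ∈ stabPlane F := Cfsg.Agent.Helper47.Cov2.P7.conj_into_stabPlane g h

theorem conj_into_normK [Fintype F] (h2 : (2 : F) ≠ 0) (K₀ : Subalgebra F (M6 F)) (hK₀ : IsCubic K₀)
    (g : Sp6 F) (h : NormCubic (g : M6 F)) : ∃ x : Sp6 F, x * g * x⁻¹ ∈ normK K₀ :=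
  Cfsg.Agent.Helper52.Cov2.P7.conj_into_normK h2 K₀ hK₀ g h

theorem stabPlane_ne_top : stabPlane F ≠ ⊤ := Cfsg.Agent.Helper30.Cov2.P7.stabPlane_ne_top

theorem center_le_stabPlane : Subgroup.center (Sp6 F) ≤ stabPlane F :=
  Cfsg.Agent.Helper30.Cov2.P7.center_le_stabPlane

theorem normK_ne_top (K₀ : Subalgebra F (M6 F)) (hK₀ : IsCubic K₀) : normK K₀ ≠ ⊤ :=
  Cfsg.Agent.Helper47.Cov2.P7.normK_ne_top K₀ hK₀

theorem center_le_normK (K₀ : Subalgebra F (M6 F)) : Subgroup.center (Sp6 F) ≤ normK K₀ :=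
  Cfsg.Agent.Helper30.Cov2.P7.center_le_normK K₀

theorem exists_su [Fintype F] (g : Sp6 F) :
    ∃ i j e m : ℕ, Nat.Coprime m 3 ∧ (g ^ i) ^ m = 1 ∧ (g ^ j) ^ (3 ^ e) = 1 ∧ g = g ^ i * g ^ j :=
  Cfsg.Agent.Helper24.Cov2.P7.exists_su g

theorem semisimple_cases [Fintype F] (a : ℕ) (ha : 1 ≤ a) (hF : Fintype.card F = 3 ^ a)
    (g s : Sp6 F) (hs : ∃ i : ℕ, s = g ^ i) (m : ℕ) (hm : Nat.Coprime m 3) (hsm : s ^ m = 1) :
    FixesPlane (g : M6 F) ∨ NormCubic (g : M6 F) ∨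
      ∃ γ : F, (s : M6 F) * (s : M6 F) - γ • (s : M6 F) + 1 = 0 :=
  Cfsg.Agent.Helper24.Cov2.P7.semisimple_cases a ha hF g s hs m hm hsm

theorem pm_one_of_sq [Fintype F] (a : ℕ) (ha : 1 ≤ a) (hF : Fintype.card F = 3 ^ a) (s : Sp6 F)
    (m : ℕ) (hm : Nat.Coprime m 3) (hsm : s ^ m = 1) (γ : F) (hγ : γ ^ 2 = 4)
    (hs : (s : M6 F) * (s : M6 F) - γ • (s : M6 F) + 1 = 0) :
    (s : M6 F) = 1 ∨ (s : M6 F) = -1 :=
  Cfsg.Agent.Helper30.Cov2.P7.pm_one_of_sq a ha hF s m hm hsm γ hγ hs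

theorem fixesPlane_one : FixesPlane (1 : M6 F) := Cfsg.Agent.Helper30.Cov2.P7.fixesPlane_one

theorem fixesPlane_of_sq_zero (h2 : (2 : F) ≠ 0) (u : Sp6 F) (h : ((u : M6 F) - 1) ^ 2 = 0)
    (h1 : (u : M6 F) - 1 ≠ 0) : FixesPlane (u : M6 F) :=
  Cfsg.Agent.Helper97.Cov2.P7.fixesPlane_of_sq_zero h2 u h h1

theorem normCubic_of_33 [Fintype F] (a : ℕ) (ha : 1 ≤ a) (hF : Fintype.card F = 3 ^ a) (u : Sp6 F)
    (h3 : ((u : M6 F) - 1) ^ 3 = 0) (h2 : ((u : M6 F) - 1) ^ 2 ≠ 0) : NormCubic (u : M6 F) :=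
  Cfsg.Agent.Helper90.Cov2.P7.normCubic_of_33 a ha hF u h3 h2

theorem fixesPlane_of_pow_four (h2 : (2 : F) ≠ 0) (u : Sp6 F) (h : ((u : M6 F) - 1) ^ 4 = 0)
    (h3 : ((u : M6 F) - 1) ^ 3 ≠ 0) : FixesPlane (u : M6 F) :=
  Cfsg.Agent.Helper97.Cov2.P7.fixesPlane_of_pow_four h2 u h h3

theorem not_pow_five (h2 : (2 : F) ≠ 0) (u : Sp6 F) (h : ((u : M6 F) - 1) ^ 5 = 0)
    (h4 : ((u : M6 F) - 1) ^ 4 ≠ 0) : False :=
  Cfsg.Agent.Helper87.Cov2.P7.not_pow_five h2 u h h4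

theorem normCubic_of_regular [Fintype F] (a : ℕ) (ha : 1 ≤ a) (hF : Fintype.card F = 3 ^ a)
    (u : Sp6 F) (h6 : ((u : M6 F) - 1) ^ 6 = 0) (h5 : ((u : M6 F) - 1) ^ 5 ≠ 0) :
    NormCubic (u : M6 F) :=
  Cfsg.Agent.Helper41.Cov2.P7.normCubic_of_regular a ha hF u h6 h5

theorem pow_six_eq_zero [Fintype F] (a : ℕ) (ha : 1 ≤ a) (hF : Fintype.card F = 3 ^ a) (u : Sp6 F)
    (e : ℕ) (hu : u ^ (3 ^ e) = 1) : ((u : M6 F) - 1) ^ 6 = 0 :=
  Cfsg.Agent.Helper87.Cov2.P7.pow_six_eq_zero a ha hF u e hu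

theorem quad_cases [Fintype F] (a : ℕ) (ha : 1 ≤ a) (hF : Fintype.card F = 3 ^ a) (s u : Sp6 F)
    (hcomm : Commute s u) (e : ℕ) (hu : u ^ (3 ^ e) = 1) (γ : F) (hγ : γ ^ 2 ≠ 4)
    (hs : (s : M6 F) * (s : M6 F) - γ • (s : M6 F) + 1 = 0) :
    FixesPlane ((s * u : Sp6 F) : M6 F) ∨
      (((u : M6 F) - 1) ^ 3 = 0 ∧
        ∃ x : V6 F, LinearIndependent F (uFam (u : M6 F) (s : M6 F) x)) := by
  have h2 : (2 : F) ≠ 0 := by
    haveI := Cfsg.Agent.Helper87.Cov2.P7.UN_char_three a ha hF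
    intro h
    have h3 : ((2 : ℕ) : F) = 0 := by exact_mod_cast h
    have := (CharP.cast_eq_zero_iff F 3 2).1 h3
    omega
  have h6 := pow_six_eq_zero a ha hF u e hu
  by_cases hex : ∃ x : V6 F, ((u : M6 F) - 1) *ᵥ x = 0 ∧
      Cfsg.sympForm 3 F x ((s : M6 F) *ᵥ x) ≠ 0
  · obtain ⟨x, hx, hB⟩ := hex
    exact Or.inl (Cfsg.Agent.Helper20.Cov2.P7.fixesPlane_of_ker s u hcomm γ hs x hx hB)
  · right
    have hno : ∀ x : V6 F, ((u : M6 F) - 1) *ᵥ x = 0 →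
        Cfsg.sympForm 3 F x ((s : M6 F) *ᵥ x) = 0 := by
      intro x hx
      by_contra hB
      exact hex ⟨x, hx, hB⟩
    have hker := Cfsg.Agent.Helper20.Cov2.P7.ker_le_range h2 s u hcomm γ hγ hs hno
    by_cases hroot : ∃ l : F, l * l - γ * l + 1 = 0
    · obtain ⟨l, hl⟩ := hroot
      exact Cfsg.Agent.Helper76.Cov2.P7.quad_split h2 s u hcomm γ hγ hs l hl h6 hker
    · have hirr : ∀ t : F, t * t - γ * t + 1 ≠ 0 := fun t ht => hroot ⟨t, ht⟩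
      exact Cfsg.Agent.Helper73.Cov2.P7.quad_irred h2 s u hcomm γ hs hirr h6 hker

theorem normCubic_of_quad [Fintype F] (a : ℕ) (ha : 1 ≤ a) (hF : Fintype.card F = 3 ^ a)
    (s u : Sp6 F) (hcomm : Commute s u) (γ : F)
    (hs : (s : M6 F) * (s : M6 F) - γ • (s : M6 F) + 1 = 0)
    (h3 : ((u : M6 F) - 1) ^ 3 = 0) (x : V6 F)
    (hx : LinearIndependent F (uFam (u : M6 F) (s : M6 F) x)) :
    NormCubic ((s * u : Sp6 F) : M6 F) :=
  Cfsg.Agent.Helper69.Cov2.P7.normCubic_of_quad_of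
    (fun g y hy t₀ t₁ g₀ h00 h11 h01 hg =>
      Cfsg.Agent.Helper80.Cov2.P7.normCubic_of_model a ha hF g y hy t₀ t₁ g₀ h00 h11 h01 hg)
    a ha hF s u hcomm γ hs h3 x hx

/-! ### assembly of the dichotomy -/

theorem fixesPlane_neg {g : M6 F} (h : FixesPlane g) : FixesPlane (-g) := by
  obtain ⟨x, y, hxy, ⟨a, b, hx⟩, ⟨c, d, hy⟩⟩ := h
  refine ⟨x, y, hxy, ⟨-a, -b, ?_⟩, ⟨-c, -d, ?_⟩⟩
  · rw [Matrix.neg_mulVec, hx]; simp only [neg_smul]; abel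
  · rw [Matrix.neg_mulVec, hy]; simp only [neg_smul]; abel

theorem normCubic_neg {g : M6 F} (h : NormCubic g) : NormCubic (-g) := by
  obtain ⟨K, hK, hn⟩ := h
  refine ⟨K, hK, fun k hk => ?_⟩
  obtain ⟨k', hk', h⟩ := hn k hk
  exact ⟨k', hk', by rw [neg_mul, h, mul_neg]⟩

theorem char_three [Fintype F] (a : ℕ) (ha : 1 ≤ a) (hF : Fintype.card F = 3 ^ a) : CharP F 3 := by
  obtain ⟨p, hp⟩ := CharP.exists F
  haveI := hp
  haveI : Fact p.Prime := ⟨CharP.char_is_prime F p⟩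
  have h1 : p ∣ Fintype.card F := by
    have : ((Fintype.card F : ℕ) : F) = 0 := Nat.cast_card_eq_zero F
    exact (CharP.cast_eq_zero_iff F p _).1 this
  rw [hF] at h1
  have h2 : p ∣ 3 := (Fact.out : p.Prime).dvd_of_dvd_pow h1
  have h3 : p = 3 := (Nat.prime_dvd_prime_iff_eq Fact.out Nat.prime_three).1 h2
  exact h3 ▸ hp

theorem two_ne_zero' [Fintype F] (a : ℕ) (ha : 1 ≤ a) (hF : Fintype.card F = 3 ^ a) :
    (2 : F) ≠ 0 := by
  haveI := char_three a ha hF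
  intro h
  have h3 : ((2 : ℕ) : F) = 0 := by exact_mod_cast h
  have := (CharP.cast_eq_zero_iff F 3 2).1 h3
  omega

/-- unipotent elements -/
theorem unipotent_cases [Fintype F] (a : ℕ) (ha : 1 ≤ a) (hF : Fintype.card F = 3 ^ a) (u : Sp6 F)
    (e : ℕ) (hu : u ^ (3 ^ e) = 1) : FixesPlane (u : M6 F) ∨ NormCubic (u : M6 F) := by
  have h2 := two_ne_zero' a ha hF
  have h6 := pow_six_eq_zero a ha hF u e hu
  by_cases h5 : ((u : M6 F) - 1) ^ 5 = 0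
  · by_cases h4 : ((u : M6 F) - 1) ^ 4 = 0
    · by_cases h3 : ((u : M6 F) - 1) ^ 3 = 0
      · by_cases h2' : ((u : M6 F) - 1) ^ 2 = 0
        · by_cases h1 : (u : M6 F) - 1 = 0
          · left
            have : (u : M6 F) = 1 := sub_eq_zero.1 h1
            rw [this]
            exact fixesPlane_one
          · left; exact fixesPlane_of_sq_zero h2 u h2' h1
        · right; exact normCubic_of_33 a ha hF u h3 h2'
      · left; exact fixesPlane_of_pow_four h2 u h4 h3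
    · exact (not_pow_five h2 u h5 h4).elim
  · right; exact normCubic_of_regular a ha hF u h6 h5

/-- (7A) -/
theorem dichotomy [Fintype F] (a : ℕ) (ha : 1 ≤ a) (hF : Fintype.card F = 3 ^ a) (g : Sp6 F) :
    FixesPlane (g : M6 F) ∨ NormCubic (g : M6 F) := by
  obtain ⟨i, j, e, m, hm, hsm, hue, hg⟩ := exists_su g
  rcases semisimple_cases a ha hF g (g ^ i) ⟨i, rfl⟩ m hm hsm with h | h | ⟨γ, hγs⟩
  · exact Or.inl h
  · exact Or.inr h
  · by_cases hγ : γ ^ 2 = 4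
    · rcases pm_one_of_sq a ha hF (g ^ i) m hm hsm γ hγ hγs with h1 | h1
      · have hgu : (g : M6 F) = ((g ^ j : Sp6 F) : M6 F) := by
          conv_lhs => rw [hg]
          rw [coe_mul_Sp6, h1, one_mul]
        rw [hgu]
        exact unipotent_cases a ha hF (g ^ j) e hue
      · have hgu : (g : M6 F) = -((g ^ j : Sp6 F) : M6 F) := by
          conv_lhs => rw [hg]
          rw [coe_mul_Sp6, h1, neg_mul, one_mul]
        rw [hgu]
        rcases unipotent_cases a ha hF (g ^ j) e hue with h | h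
        · exact Or.inl (fixesPlane_neg h)
        · exact Or.inr (normCubic_neg h)
    · have hcomm : Commute (g ^ i) (g ^ j) := (Commute.refl g).pow_pow i j
      rcases quad_cases a ha hF (g ^ i) (g ^ j) hcomm e hue γ hγ hγs with h | ⟨h3, x, hx⟩
      · left
        rw [← hg] at h
        exact h
      · right
        have := normCubic_of_quad a ha hF (g ^ i) (g ^ j) hcomm γ hγs h3 x hx
        rw [← hg] at this
        exact this

end Cfsg.Agent.Helper43.Cov2.P7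

namespace Cfsg.Agent.Helper43.Cov2

open P7

variable {F : Type*} [Field F] [Fintype F]

theorem part7 (a : ℕ) (ha : 1 ≤ a) (hF : Fintype.card F = 3 ^ a) :
    Cover2Z (Matrix.symplecticGroup (Fin 3) F) := by
  have h2 := two_ne_zero' a ha hF
  by_cases hex : ∃ K₀ : Subalgebra F (M6 F), IsCubic K₀
  · obtain ⟨K₀, hK₀⟩ := hex
    refine ⟨normK K₀, stabPlane F, center_le_normK K₀, center_le_stabPlane,
      normK_ne_top K₀ hK₀, stabPlane_ne_top, ?_⟩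
    intro g
    rcases dichotomy a ha hF g with h | h
    · obtain ⟨x, hx⟩ := conj_into_stabPlane g h
      exact ⟨x, Or.inr hx⟩
    · obtain ⟨x, hx⟩ := conj_into_normK h2 K₀ hK₀ g h
      exact ⟨x, Or.inl hx⟩
  · refine ⟨stabPlane F, stabPlane F, center_le_stabPlane, center_le_stabPlane,
      stabPlane_ne_top, stabPlane_ne_top, ?_⟩
    intro g
    rcases dichotomy a ha hF g with h | h
    · obtain ⟨x, hx⟩ := conj_into_stabPlane g h
      exact ⟨x, Or.inl hx⟩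
    · obtain ⟨K, hK, _⟩ := h
      exact (hex ⟨K, hK⟩).elim

end Cfsg.Agent.Helper43.Cov2
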