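import Cfsg.Agent.Helper43.Cov2.Defs
import Cfsg.Agent.Helper43.G2Hom

/-!
# S2500 part 8: `G₂(q)`, `q = 2^a ≥ 4`, is covered by the conjugates of the stabilisers of the
two kinds of quadratic étale subalgebras `F[e]` of the split octonions.

`act g x` : the action of `g ∈ G₂(F)` on `F⁸`;  `one8`, `tr8`, `N8` : unit, trace and norm of the
Zorn algebra;  `stabE e` : the elements `g` with `g e ∈ e + F·1`.
-/

set_option autoImplicit false

namespace Cfsg.Agent.Helper43.Cov2.P8

open Matrix Cfsg.Lie

variable {F : Type*} [Field F]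

/-- the action of `G₂(F)` on `F⁸` -/
def act (g : G2 F) (x : Fin 8 → F) : Fin 8 → F := (g : GL (Fin 8) F).1 *ᵥ x

/-- the identity of the Zorn algebra -/
def one8 : Fin 8 → F := ![1, 0, 0, 0, 0, 0, 0, 1]

/-- the trace -/
def tr8 (x : Fin 8 → F) : F := x 0 + x 7

/-- the norm -/
def N8 (x : Fin 8 → F) : F := x 0 * x 7 - (x 1 * x 4 + x 2 * x 5 + x 3 * x 6)

theorem act_mul (g h : G2 F) (x : Fin 8 → F) : act (g * h) x = act g (act h x) := by
  unfold act
  rw [Matrix.mulVec_mulVec]
  rfl

theorem act_one_elt (x : Fin 8 → F) : act (1 : G2 F) x = x := by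
  unfold act
  simp

theorem act_add (g : G2 F) (x y : Fin 8 → F) : act g (x + y) = act g x + act g y :=
  Matrix.mulVec_add _ _ _

theorem act_smul (g : G2 F) (c : F) (x : Fin 8 → F) : act g (c • x) = c • act g x :=
  Matrix.mulVec_smul _ _ _

theorem act_sub (g : G2 F) (x y : Fin 8 → F) : act g (x - y) = act g x - act g y :=
  Matrix.mulVec_sub _ _ _

theorem act_zornMul (g : G2 F) (x y : Fin 8 → F) :
    act g (zornMul x y) = zornMul (act g x) (act g y) := g.2 x y

theorem act_inv_act (g : G2 F) (x : Fin 8 → F) : act g⁻¹ (act g x) = x := by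
  rw [← act_mul, inv_mul_cancel, act_one_elt]

theorem act_act_inv (g : G2 F) (x : Fin 8 → F) : act g (act g⁻¹ x) = x := by
  rw [← act_mul, mul_inv_cancel, act_one_elt]

theorem zornMul_one8_left (x : Fin 8 → F) : zornMul one8 x = x := by
  ext i
  fin_cases i <;> simp [zornMul, one8, dot3, cross3]

theorem zornMul_one8_right (x : Fin 8 → F) : zornMul x one8 = x := by
  ext i
  fin_cases i <;> simp [zornMul, one8, dot3, cross3]

/-- automorphisms fix the identity -/
theorem act_one8 (g : G2 F) : act g (one8 : Fin 8 → F) = one8 := by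
  have h1 : zornMul (act g one8) (one8 : Fin 8 → F) = one8 := by
    have := act_zornMul g one8 (act g⁻¹ one8)
    rw [zornMul_one8_left, act_act_inv] at this
    exact this.symm
  rw [zornMul_one8_right] at h1
  exact h1

/-- the stabiliser of the coset `e + F·1` -/
def stabE (e : Fin 8 → F) : Subgroup (G2 F) where
  carrier := {g | ∃ c : F, act g e = e + c • one8}
  mul_mem' {g h} hg hh := by
    obtain ⟨c, hc⟩ := hg
    obtain ⟨d, hd⟩ := hh
    refine ⟨c + d, ?_⟩
    rw [act_mul, hd, act_add, act_smul, act_one8, hc, add_smul, add_assoc]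
  one_mem' := ⟨0, by rw [act_one_elt, zero_smul, add_zero]⟩
  inv_mem' {g} hg := by
    obtain ⟨c, hc⟩ := hg
    refine ⟨-c, ?_⟩
    have h1 : act g⁻¹ (act g e) = act g⁻¹ (e + c • one8) := by rw [hc]
    rw [act_inv_act, act_add, act_smul, act_one8] at h1
    rw [neg_smul, ← sub_eq_add_neg]
    exact eq_sub_of_add_eq h1.symm

theorem mem_stabE {e : Fin 8 → F} {g : G2 F} :
    g ∈ stabE e ↔ ∃ c : F, act g e = e + c • one8 := Iff.rfl

end Cfsg.Agent.Helper43.Cov2.P8
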