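import Cfsg.Agent.Helper43.Cov2.P8Defs
import Cfsg.Agent.Helper43.G2Vec
import Cfsg.Agent.Helper49.Cov2P88A
import Cfsg.Agent.Helper97.Cov2P88B
import Cfsg.Agent.Helper97.Cov2P88C
import Cfsg.Agent.Helper89.Cov2P8D1
import Cfsg.Agent.Helper89.Cov2P8E
import Cfsg.Agent.Helper20.Cov2P8D
import Cfsg.Agent.Helper22.Cov2P8F
import Cfsg.Agent.Helper22.Cov2P8P

/-!
# S2500 part 8: assembly
-/

set_option autoImplicit false

namespace Cfsg.Agent.Helper43.Cov2.P8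

open Matrix Cfsg.Lie Cfsg.Agent.Helper43.G2S

variable {F : Type*} [Field F]

theorem dye8 [CharP F 2] (g : G2 F) : ∃ e : Fin 8 → F, tr8 e = 1 ∧ g ∈ stabE e :=
  Cfsg.Agent.Helper97.Cov2.P8.dye8 g

theorem trans8 [Fintype F] [CharP F 2] (hq : 4 ≤ Fintype.card F) (e e' : Fin 8 → F)
    (he : tr8 e = 1) (he' : tr8 e' = 1) (hN : N8 e = N8 e') :
    ∃ g : G2 F, act g e = e' :=
  Cfsg.Agent.Helper22.Cov2.P8.trans8_of Cfsg.Agent.Helper49.Cov2.P8.act_tr8
    Cfsg.Agent.Helper49.Cov2.P8.act_N8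
    (fun e he => Cfsg.Agent.Helper20.Cov2.P8.into_H0 Cfsg.Agent.Helper97.Cov2.P8.exists_sl3
      Cfsg.Agent.Helper89.Cov2.P8.sl3_normal hq e he)
    Cfsg.Agent.Helper89.Cov2.P8.sl2_conj e e' he he' hN

theorem AS_index_two [Fintype F] [CharP F 2] :
    ∃ n₀ : F, ∀ n : F, (∃ c : F, n = c ^ 2 + c) ∨ (∃ c : F, n = n₀ + (c ^ 2 + c)) :=
  Cfsg.Agent.Helper22.Cov2.P8.AS_index_two

/-! ### assembly -/

theorem tr8_add_smul (e : Fin 8 → F) (c : F) : tr8 (e + c • one8) = tr8 e + 2 * c := by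
  simp [tr8, one8]
  ring

theorem N8_add_smul (e : Fin 8 → F) (c : F) :
    N8 (e + c • one8) = N8 e + c * tr8 e + c ^ 2 := by
  simp [N8, tr8, one8]
  ring

theorem stabE_add_smul (e : Fin 8 → F) (c : F) (g : G2 F) (hg : g ∈ stabE e) :
    g ∈ stabE (e + c • one8) := by
  obtain ⟨d, hd⟩ := hg
  refine ⟨d, ?_⟩
  rw [act_add, act_smul, act_one8, hd]
  abel

theorem conj_mem_stabE (e e' : Fin 8 → F) (g x : G2 F) (hg : g ∈ stabE e) (hx : act x e = e') :
    x * g * x⁻¹ ∈ stabE e' := by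
  obtain ⟨d, hd⟩ := hg
  refine ⟨d, ?_⟩
  have h1 : act x⁻¹ e' = e := by rw [← hx, act_inv_act]
  rw [act_mul, act_mul, h1, hd, act_add, act_smul, act_one8, hx]

theorem stabE_ne_top [Fintype F] [CharP F 2] (hq : 4 ≤ Fintype.card F) (e e' : Fin 8 → F)
    (he : tr8 e = 1) (he' : tr8 e' = 1) (hN : N8 e = N8 e') (i : Fin 8) (hi : i ≠ 0) (hi7 : i ≠ 7)
    (hne : e' i ≠ e i) : stabE e ≠ ⊤ := by
  intro htop
  obtain ⟨g, hg⟩ := trans8 hq e e' he he' hN
  have hmem : g ∈ stabE e := by rw [htop]; exact Subgroup.mem_top _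
  obtain ⟨c, hc⟩ := hmem
  rw [hg] at hc
  have := congrFun hc i
  apply hne
  rw [this]
  fin_cases i <;> simp_all [one8]

end Cfsg.Agent.Helper43.Cov2.P8

namespace Cfsg.Agent.Helper43.Cov2

open Matrix Cfsg.Lie P8

variable {F : Type*} [Field F] [Fintype F]

theorem part8 (a : ℕ) (ha : 2 ≤ a) (hF : Fintype.card F = 2 ^ a) : Cover2 (Cfsg.Lie.G2 F) := by
  have hq : 4 ≤ Fintype.card F := by
    rw [hF]
    calc 4 = 2 ^ 2 := by norm_num
      _ ≤ 2 ^ a := Nat.pow_le_pow_right (by norm_num) ha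
  haveI : CharP F 2 := by
    obtain ⟨p, hp⟩ := CharP.exists F
    haveI := hp
    haveI : Fact p.Prime := ⟨CharP.char_is_prime F p⟩
    have h1 : p ∣ Fintype.card F := by
      have : ((Fintype.card F : ℕ) : F) = 0 := Nat.cast_card_eq_zero F
      exact (CharP.cast_eq_zero_iff F p _).1 this
    rw [hF] at h1
    have h2 : p ∣ 2 := (Fact.out : p.Prime).dvd_of_dvd_pow h1
    have h3 : p = 2 := (Nat.prime_dvd_prime_iff_eq Fact.out Nat.prime_two).1 h2
    exact h3 ▸ hp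
  have h2 : (2 : F) = 0 := CharP.cast_eq_zero F 2
  obtain ⟨n₀, hn₀⟩ := AS_index_two (F := F)
  set ep : Fin 8 → F := ![1, 0, 0, 0, 0, 0, 0, 0] with hep
  set em : Fin 8 → F := ![0, 1, 0, 0, n₀, 0, 0, 1] with hem
  have hep_tr : tr8 ep = 1 := by simp [tr8, hep]
  have hem_tr : tr8 em = 1 := by simp [tr8, hem]
  have hep_N : N8 ep = 0 := by simp [N8, hep]
  have hem_N : N8 em = n₀ := by
    simp [N8, hem]
    exact neg_eq_of_add_eq_zero_left (by rw [← two_mul, h2, zero_mul])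
  refine ⟨stabE ep, stabE em, ?_, ?_, ?_⟩
  · refine stabE_ne_top hq ep ![1, 1, 0, 0, 0, 0, 0, 0] hep_tr (by simp [tr8]) (by simp [N8, hep])
      1 (by decide) (by decide) (by simp [hep])
  · refine stabE_ne_top hq em ![0, 0, 1, 0, 0, n₀, 0, 1] hem_tr (by simp [tr8])
      (by simp [N8, hem]) 2 (by decide) (by decide) (by simp [hem])
  · intro g
    obtain ⟨e, he, hg⟩ := dye8 g
    rcases hn₀ (N8 e) with ⟨c, hc⟩ | ⟨c, hc⟩
    · have h1 : tr8 (e + c • one8) = 1 := by rw [tr8_add_smul, he, h2, zero_mul, add_zero]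
      have h3 : N8 (e + c • one8) = N8 ep := by
        rw [N8_add_smul, he, hc, hep_N, mul_one]
        have : c ^ 2 + c + c + c ^ 2 = 2 * (c ^ 2 + c) := by ring
        rw [this, h2, zero_mul]
      obtain ⟨x, hx⟩ := trans8 hq _ _ h1 hep_tr h3
      exact ⟨x, Or.inl (conj_mem_stabE _ _ g x (stabE_add_smul e c g hg) hx)⟩
    · have h1 : tr8 (e + c • one8) = 1 := by rw [tr8_add_smul, he, h2, zero_mul, add_zero]
      have h3 : N8 (e + c • one8) = N8 em := by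
        rw [N8_add_smul, he, hc, hem_N, mul_one]
        have : n₀ + (c ^ 2 + c) + c + c ^ 2 = n₀ + 2 * (c ^ 2 + c) := by ring
        rw [this, h2, zero_mul, add_zero]
      obtain ⟨x, hx⟩ := trans8 hq _ _ h1 hem_tr h3
      exact ⟨x, Or.inr (conj_mem_stabE _ _ g x (stabE_add_smul e c g hg) hx)⟩

end Cfsg.Agent.Helper43.Cov2
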